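import Mathlib.Algebra.Homology.DerivedCategory.Fractions
import Mathlib.Algebra.Homology.HomotopyCategory.Acyclic

/-!
# Bounded roofs in the homotopy category
-/

set_option autoImplicit false
set_option backward.isDefEq.respectTransparency.types false

universe w v u

open CategoryTheory CategoryTheory.Limits CategoryTheory.Pretriangulated CochainComplex

namespace Groth.Agent.Roofs8

variable {A : Type u} [Category.{v} A] [Abelian A]

local notation "q" => HomotopyCategory.quotient A (ComplexShape.up ℤ)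

theorem cone_isStrictlyLE {F G : CochainComplex A ℤ} (φ : F ⟶ G) (b b' d : ℤ) [F.IsStrictlyLE b]
    [G.IsStrictlyLE b'] (h₁ : b - 1 ≤ d) (h₂ : b' ≤ d) : (mappingCone φ).IsStrictlyLE d := by
  rw [CochainComplex.isStrictlyLE_iff]
  intro i hi
  have z1 : IsZero (F.X (i + 1)) := F.isZero_of_isStrictlyLE b (i + 1) (by omega)
  have z2 : IsZero (G.X i) := G.isZero_of_isStrictlyLE b' i (by omega)
  rw [IsZero.iff_id_eq_zero, mappingCone.ext_from_iff φ (i + 1) i rfl]
  exact ⟨z1.eq_of_src _ _, z2.eq_of_src _ _⟩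

theorem quasiIso_quotient_map {K L : CochainComplex A ℤ} (f : K ⟶ L) [h : _root_.QuasiIso f] :
    HomotopyCategory.quasiIso A (ComplexShape.up ℤ) ((q).map f) := by
  rwa [HomotopyCategory.quotient_map_mem_quasiIso_iff, HomologicalComplex.mem_quasiIso_iff]

theorem quasiIso_of_quotient_map {K L : CochainComplex A ℤ} (f : K ⟶ L)
    (h : HomotopyCategory.quasiIso A (ComplexShape.up ℤ) ((q).map f)) : _root_.QuasiIso f := by
  rwa [HomotopyCategory.quotient_map_mem_quasiIso_iff, HomologicalComplex.mem_quasiIso_iff] at h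

/-- Any roof over a bounded above complex can be replaced by one with bounded above top. -/
theorem exists_truncLE {K K' : CochainComplex A ℤ} (a : ℤ) [K.IsStrictlyLE a] (s : K' ⟶ K)
    [_root_.QuasiIso s] : ∃ (K'' : CochainComplex A ℤ) (_ : K''.IsStrictlyLE a) (u : K'' ⟶ K'),
      _root_.QuasiIso (u ≫ s) := by
  refine ⟨K'.truncLE a, inferInstance, K'.ιTruncLE a, ?_⟩
  haveI : _root_.QuasiIso (CochainComplex.truncLEMap s a) := by
    rw [CochainComplex.quasiIso_truncLEMap_iff]
    intros; infer_instance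
  rw [← CochainComplex.ιTruncLE_naturality]
  infer_instance

/-- Any roof under a bounded below complex can be replaced by one with bounded below bottom. -/
theorem exists_truncGE {L L' : CochainComplex A ℤ} (a : ℤ) [L.IsStrictlyGE a] (t : L ⟶ L')
    [_root_.QuasiIso t] : ∃ (u : L' ⟶ L'.truncGE a), _root_.QuasiIso (t ≫ u) := by
  refine ⟨L'.πTruncGE a, ?_⟩
  haveI : _root_.QuasiIso (CochainComplex.truncGEMap t a) := by
    rw [CochainComplex.quasiIso_truncGEMap_iff]
    intros; infer_instance
  rw [← CochainComplex.πTruncGE_naturality]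
  infer_instance

variable [HasDerivedCategory.{w} A]

theorem exists_precomp {K L : CochainComplex A ℤ} (a : ℤ) [K.IsStrictlyLE a] (f₁ f₂ : K ⟶ L)
    (h : DerivedCategory.Qh.map ((q).map f₁) = DerivedCategory.Qh.map ((q).map f₂)) :
    ∃ (K' : CochainComplex A ℤ) (_ : K'.IsStrictlyLE a) (s : K' ⟶ K), _root_.QuasiIso s ∧
      (q).map s ≫ (q).map f₁ = (q).map s ≫ (q).map f₂ := by
  obtain ⟨K', s, hs, e⟩ := (MorphismProperty.map_eq_iff_precomp DerivedCategory.Qh
    (HomotopyCategory.quasiIso A (ComplexShape.up ℤ)) _ _).mp h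
  obtain ⟨K', rfl⟩ := HomotopyCategory.quotient_obj_surjective K'
  obtain ⟨s, rfl⟩ := (q).map_surjective s
  haveI := quasiIso_of_quotient_map s hs
  obtain ⟨K'', hK'', u, hu⟩ := exists_truncLE a s
  exact ⟨K'', hK'', u ≫ s, hu, by rw [Functor.map_comp, Category.assoc, Category.assoc, e]⟩

theorem exists_postcomp {K L : CochainComplex A ℤ} (b a' b' : ℤ) [K.IsStrictlyLE b]
    [L.IsStrictlyGE a'] [L.IsStrictlyLE b'] (f₁ f₂ : K ⟶ L)
    (h : DerivedCategory.Qh.map ((q).map f₁) = DerivedCategory.Qh.map ((q).map f₂)) :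
    ∃ (L' : CochainComplex A ℤ) (_ : L'.IsStrictlyGE a') (_ : L'.IsStrictlyLE (max b b')) (t : L ⟶ L'),
      _root_.QuasiIso t ∧ (q).map f₁ ≫ (q).map t = (q).map f₂ ≫ (q).map t := by
  obtain ⟨K', hK', s, hs, e⟩ := exists_precomp b f₁ f₂ h
  haveI := hK'
  obtain ⟨g, hg⟩ := Triangle.yoneda_exact₂ _ (HomotopyCategory.mappingCone_triangleh_distinguished s)
    ((q).map (f₁ - f₂)) (by
      show (q).map s ≫ (q).map (f₁ - f₂) = 0
      rw [Functor.map_sub, Preadditive.comp_sub, e, sub_self])
  obtain ⟨g, rfl⟩ := (q).map_surjective g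
  change mappingCone s ⟶ L at g
  haveI : (mappingCone s).IsStrictlyLE b := cone_isStrictlyLE s b b b (by omega) le_rfl
  haveI : (mappingCone g).IsStrictlyLE (max b b') :=
    cone_isStrictlyLE g b b' _ (le_trans (by omega) (le_max_left b b')) (le_max_right b b')
  have hC : HomotopyCategory.subcategoryAcyclic A ((q).obj (mappingCone s)) := by
    have := ((HomotopyCategory.subcategoryAcyclic A).trW_iff ((q).map s)).mp
      (by rw [← HomotopyCategory.quasiIso_eq_trW_subcategoryAcyclic]; exact quasiIso_quotient_map s)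
    obtain ⟨Z, u, v, hT, hZ⟩ := this
    exact (HomotopyCategory.subcategoryAcyclic A).prop_of_iso
      (isoTriangleOfIso₁₂ _ _ hT (HomotopyCategory.mappingCone_triangleh_distinguished s)
        (Iso.refl _) (Iso.refl _) (by show (q).map s ≫ 𝟙 _ = 𝟙 _ ≫ (q).map s; simp) |> Triangle.π₃.mapIso) hZ
  haveI : _root_.QuasiIso (mappingCone.inr g) := by
    refine quasiIso_of_quotient_map _ ?_
    rw [HomotopyCategory.quasiIso_eq_trW_subcategoryAcyclic]
    exact ObjectProperty.trW.mk' _ (HomotopyCategory.mappingCone_triangleh_distinguished g) hC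
  obtain ⟨u, hu⟩ := exists_truncGE a' (mappingCone.inr g)
  refine ⟨(mappingCone g).truncGE a', inferInstance, inferInstance, mappingCone.inr g ≫ u, hu, ?_⟩
  rw [← sub_eq_zero, ← Preadditive.sub_comp, ← Functor.map_sub]
  erw [hg]
  rw [Functor.map_comp]
  erw [Category.assoc]
  have z : (q).map g ≫ (q).map (mappingCone.inr g) = 0 :=
    comp_distTriang_mor_zero₁₂ _ (HomotopyCategory.mappingCone_triangleh_distinguished g)
  erw [reassoc_of% z]
  simp only [zero_comp, comp_zero]
  exact comp_zero

end Groth.Agent.Roofs8
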